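import Groth.Agent.PicfLib.CurveTw.Point
import Groth.Agent.CurveFin75.Degree
import Groth.Agent.GeomField.Fibre
import Groth.Agent.GrpSchLib.SepPoints
import Groth.Agent.H23.PicMul
import Groth.Prelude.Def_Curve

/-! A line bundle on the extension of a curve has a twist from the base with one section and no first cohomology. -/

set_option autoImplicit false
set_option linter.style.haveILetI false
set_option backward.isDefEq.respectTransparency false
set_option backward.isDefEq.respectTransparency.types false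

universe u

open CategoryTheory CategoryTheory.Limits AlgebraicGeometry TopologicalSpace Opposite

namespace Groth.Agent.PicfLib.CurveTw

open Groth.Agent.H23.PicMul Groth.Agent.PicClLib

attribute [local instance] CurveBC.overBar

variable {k : Type u} [Field k] {X : Scheme.{u}} [X.Over (Spec (CommRingCat.of k))]
variable {K : Type u} [Field K] [Algebra k K] {X' : Scheme.{u}} [X'.Over (Spec (CommRingCat.of K))]
variable (g : X' ⟶ X)
  (hpb : IsPullback g (X' ↘ Spec (CommRingCat.of K)) (X ↘ Spec (CommRingCat.of k))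
    (Spec.map (CommRingCat.ofHom (algebraMap k K))))

theorem finrank_congr_cl {M N : X.Modules} (h : PicF.cl M = PicF.cl N) (i : ℕ) :
    Module.finrank k (Coh.HH X M i) = Module.finrank k (Coh.HH X N i) := by
  obtain ⟨e⟩ := cl_eq_iff.1 h
  exact (CurveCohLib.hhEquiv (k := k) e i).finrank_eq

theorem cl_tensorBi (A B : X.Modules) :
    PicF.cl ((DCoh.tensorBi.obj A).obj B) = PicF.cl A * PicF.cl B := cl_tensor A B

theorem cl_pull {Y Z : Scheme.{u}} (f : Y ⟶ Z) (A : Z.Modules) :
    PicF.cl ((Scheme.Modules.pullback f).obj A) = PicF.pullCl f (PicF.cl A) := rfl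

section Core

variable [IsIntegral X] [IsProper (X ↘ Spec (CommRingCat.of k))] [Smooth (X ↘ Spec (CommRingCat.of k))]
  [IsSepClosed k] [IsAlgClosed K]

include hpb in
theorem core (hdim : topologicalKrullDim X = 1) (L : X'.Modules) (hL : PicF.IsInvertible L) :
    ∃ L₀ : X.Modules, PicF.IsInvertible L₀ ∧
      Module.finrank K (Coh.HH X' (CohB1.tensorMod L ((Scheme.Modules.pullback g).obj L₀)) 0) = 1 ∧
      Subsingleton (Coh.HH X' (CohB1.tensorMod L ((Scheme.Modules.pullback g).obj L₀)) 1) := by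
  haveI := GeomField.geometricallyIrreducible_of_isSepClosed (k := k) (X := X)
  haveI : GeometricallyConnected (X ↘ Spec (CommRingCat.of k)) := ⟨by
    intro L _ y W fst snd h
    haveI : IrreducibleSpace W := GeometricallyIrreducible.geometrically_irreducibleSpace y fst snd h
    infer_instance⟩
  have h0 := CurveBC.finrank_h0_of_geometricallyConnected k X
  haveI := CurveBC.isProper k K g hpb
  haveI := CurveBC.smooth k K g hpb
  haveI := CurveBC.isIntegral k K g hpb h0
  have hdim' := CurveBC.topologicalKrullDim_eq k K g hpb hdim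
  haveI := CurveCohLib.isNoetherian_of_proper (k := K) (X := X')
  have hinvT : ∀ {A B : X'.Modules}, PicF.IsInvertible A → PicF.IsInvertible B →
      PicF.IsInvertible (CohB1.tensorMod A B) := fun hA hB => InvX.isInvertible_tensorMod hA hB
  -- twists of every natural degree
  obtain ⟨σ, hσ, -⟩ := GrpSchLib.exists_point_of_smooth (X ↘ Spec (CommRingCat.of k)) ⊤
    (show genericPoint X ∈ (⊤ : X.Opens) from trivial)
  obtain ⟨p, hp, -, hP, ⟨eP⟩⟩ := exists_point_module k K hpb hdim hdim' σ hσ
  obtain ⟨D, hD, ⟨eD⟩⟩ := Groth.Agent.H23.PicInv.exists_inverse hP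
  have hdegD : Curv2.deg K X' ((Scheme.Modules.pullback g).obj D) 1 = 1 := by
    have hD' := isInvertible_pullback g hD
    have hI := CurvePoint.isInvertible_ptMod p hp K hdim'
    have h := CurveRR.deg_tensor K hdim' hI hD'
    obtain ⟨e⟩ : Nonempty ((DCoh.tensorBi.obj (CurvePoint.ptMod p hp)).obj ((Scheme.Modules.pullback g).obj D) ≅
        Coh.structureModule X') := by
      refine cl_eq_iff.1 ?_
      rw [cl_tensorBi, ← cl_eq_iff.2 ⟨eP⟩, cl_pull, cl_pull, ← pullCl_mul, ← cl_tensor, cl_eq_iff.2 ⟨eD⟩]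
      exact pullCl_one g
    rw [CurveRR.deg_congr K e, CurveDeg.deg_structureModule, CurvePoint.deg_ptMod p hp K] at h
    omega
  have hall : ∀ m : ℕ, ∃ L₀ : X.Modules, PicF.IsInvertible L₀ ∧
      Curv2.deg K X' ((Scheme.Modules.pullback g).obj L₀) 1 = m := by
    intro m
    induction m with
    | zero =>
      refine ⟨_, CurveDeg.isInvertible_structureModule, ?_⟩
      rw [CurveRR.deg_congr K (CurveBC.unitIso g) 1, CurveDeg.deg_structureModule]
      rfl
    | succ i ih =>
      obtain ⟨L₀, h₀, hd⟩ := ih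
      obtain ⟨e⟩ := pull g L₀ D
      refine ⟨_, InvX.isInvertible_tensorMod h₀ hD, ?_⟩
      rw [CurveRR.deg_congr K e 1]
      refine (CurveRR.deg_tensor K hdim' (isInvertible_pullback g h₀) (isInvertible_pullback g hD)).trans ?_
      rw [hd, hdegD]
      push_cast
      ring
  have hχ : ∀ {M : X'.Modules}, PicF.IsInvertible M →
      (Module.finrank K (Coh.HH X' M 0) : ℤ) - Module.finrank K (Coh.HH X' M 1) =
        Curv2.deg K X' M 1 + (1 - (Curv2.genus K X' : ℤ)) := fun {M} hM => by
    rw [← CurveRR.euler_eq_h0_sub_h1 K hdim'.le (CurveDeg.isCoh_of_isInvertible hM).1]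
    unfold Curv2.deg
    rw [CurveRR.euler_structureModule K hdim'.le]
    push_cast
    ring
  have hstep : ∀ (n : ℕ) (L₀ : X.Modules), PicF.IsInvertible L₀ →
      Subsingleton (Coh.HH X' (CohB1.tensorMod L ((Scheme.Modules.pullback g).obj L₀)) 1) →
      Curv2.deg K X' (CohB1.tensorMod L ((Scheme.Modules.pullback g).obj L₀)) 1 = Curv2.genus K X' + n →
      ∃ L₀ : X.Modules, PicF.IsInvertible L₀ ∧
        Module.finrank K (Coh.HH X' (CohB1.tensorMod L ((Scheme.Modules.pullback g).obj L₀)) 0) = 1 ∧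
        Subsingleton (Coh.HH X' (CohB1.tensorMod L ((Scheme.Modules.pullback g).obj L₀)) 1) := by
    intro n
    induction n with
    | zero =>
      intro L₀ h₀ h1 hd
      refine ⟨L₀, h₀, ?_, h1⟩
      have hh := hχ (hinvT hL (isInvertible_pullback g h₀))
      haveI := h1
      rw [hd, Module.finrank_zero_of_subsingleton (R := K)
        (M := Coh.HH X' (CohB1.tensorMod L ((Scheme.Modules.pullback g).obj L₀)) 1)] at hh
      omega
    | succ i ih =>
      intro L₀ h₀ h1 hd
      have hM := hinvT hL (isInvertible_pullback g h₀)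
      obtain ⟨Z, hZ, hZ'⟩ := twist_down_at K hdim' hM h1 (by rw [hd]; push_cast; omega)
      obtain ⟨F, hF⟩ : ∃ F : Set X, F = {y | y ∈ g '' Z ∧ IsClosed ({y} : Set X)} := ⟨_, rfl⟩
      have hFfin : F.Finite := (hZ.image g).subset fun y hy => by rw [hF] at hy; exact hy.1
      have hFcl : IsClosed F := by
        rw [← Set.biUnion_of_singleton F]
        exact hFfin.isClosed_biUnion fun y hy => by rw [hF] at hy; exact hy.2
      obtain ⟨x, -, hx⟩ := CurveTwist.exists_closed_notMem k hdim hFfin
      obtain ⟨τ, hτ, hτO⟩ := GrpSchLib.exists_point_of_smooth (X ↘ Spec (CommRingCat.of k))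
        ⟨Fᶜ, hFcl.isOpen_compl⟩ (show x ∈ (⟨Fᶜ, hFcl.isOpen_compl⟩ : X.Opens) from hx)
      obtain ⟨q, hq, hgq, hQ, ⟨eQ⟩⟩ := exists_point_module k K hpb hdim hdim' τ hτ
      have hqZ : q ∉ Z := fun h => hτO (by
        rw [hF]; exact ⟨⟨q, h, hgq⟩, isClosed_point τ hτ⟩)
      have hQ1 : PicF.IsInvertible
          (CohB1.tensorMod L₀ (CurvePoint.ptMod _ (isClosed_point τ hτ))) := InvX.isInvertible_tensorMod h₀ hQ
      obtain ⟨e⟩ : Nonempty ((DCoh.tensorBi.obj (CohB1.tensorMod L ((Scheme.Modules.pullback g).obj L₀))).obj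
          (CurvePoint.ptMod q hq) ≅ CohB1.tensorMod L ((Scheme.Modules.pullback g).obj
            (CohB1.tensorMod L₀ (CurvePoint.ptMod _ (isClosed_point τ hτ))))) := by
        refine cl_eq_iff.1 ?_
        rw [cl_tensorBi, cl_tensor, cl_tensor, cl_pull, cl_pull, cl_tensor, pullCl_mul, ← mul_assoc,
          ← cl_pull g (CurvePoint.ptMod _ (isClosed_point τ hτ)), cl_eq_iff.2 ⟨eQ⟩]
      refine ih _ hQ1 ?_ ?_
      · haveI := hZ' q hq hqZ
        exact (CurveCohLib.hhEquiv (k := K) e 1).symm.injective.subsingleton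
      · rw [← CurveRR.deg_congr K e 1,
          CurveRR.deg_tensor K hdim' hM (CurvePoint.isInvertible_ptMod q hq K hdim'),
          CurvePoint.deg_ptMod q hq K, hd]
        push_cast
        ring
  obtain ⟨n, hn, hn'⟩ : ∃ n : ℕ, 2 * (Curv2.genus K X' : ℤ) - 2 < Curv2.genus K X' + n ∧
      Curv2.deg K X' L 1 ≤ Curv2.genus K X' + n :=
    ⟨(Curv2.deg K X' L 1).toNat + Curv2.genus K X', by omega, by omega⟩
  obtain ⟨L₀, h₀, hd₀⟩ := hall (Curv2.genus K X' + n - Curv2.deg K X' L 1).toNat
  have hd : Curv2.deg K X' (CohB1.tensorMod L ((Scheme.Modules.pullback g).obj L₀)) 1 = Curv2.genus K X' + n := by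
    refine (CurveRR.deg_tensor K hdim' hL (isInvertible_pullback g h₀)).trans ?_
    rw [hd₀, Int.toNat_of_nonneg (by omega)]
    ring
  exact hstep n L₀ h₀ (CurveFF.subsingleton_h1 K hdim' (hinvT hL (isInvertible_pullback g h₀)) (by rw [hd]; exact hn)) hd

end Core

include hpb in
theorem exists_twist [IsSepClosed k] (hX : Curve.IsSmoothProperCurve k X (X ↘ Spec (CommRingCat.of k)))
    (L : X'.Modules) (hL : PicF.IsInvertible L) :
    ∃ L₀ : X.Modules, PicF.IsInvertible L₀ ∧
      Module.finrank K (Coh.HH X' (CohB1.tensorMod L ((Scheme.Modules.pullback g).obj L₀)) 0) = 1 ∧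
      Subsingleton (Coh.HH X' (CohB1.tensorMod L ((Scheme.Modules.pullback g).obj L₀)) 1) := by
  obtain ⟨_, _, _, hdim⟩ := hX
  haveI := CurveBC.isProper k K g hpb
  haveI := quasiSeparatedSpace_of_quasiSeparated (X' ↘ Spec (CommRingCat.of K))
  haveI := QuasiCompact.compactSpace_of_compactSpace (X' ↘ Spec (CommRingCat.of K))
  let π := Curv2.bcFst K X' (AlgebraicClosure K)
  have hbar := CurveBC.isPullback_bar K X'
  have hcomp : IsPullback (π ≫ g)
      ((Curv2.bc K X' (AlgebraicClosure K)) ↘ Spec (CommRingCat.of (AlgebraicClosure K)))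
      (X ↘ Spec (CommRingCat.of k)) (Spec.map (CommRingCat.ofHom (algebraMap k (AlgebraicClosure K)))) := by
    have h := hbar.paste_horiz hpb
    rwa [← Spec.map_comp, ← CommRingCat.ofHom_comp, ← IsScalarTower.algebraMap_eq] at h
  obtain ⟨L₀, h₀, hh0, hh1⟩ := core (π ≫ g) hcomp hdim ((Scheme.Modules.pullback π).obj L)
    (isInvertible_pullback π hL)
  have hM := InvX.isInvertible_tensorMod hL (isInvertible_pullback g h₀)
  have hq := ProjUPX.isQCoh_of_isInvertible hM
  have hcl : PicF.cl ((Scheme.Modules.pullback π).obj (CohB1.tensorMod L ((Scheme.Modules.pullback g).obj L₀))) =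
      PicF.cl (CohB1.tensorMod ((Scheme.Modules.pullback π).obj L) ((Scheme.Modules.pullback (π ≫ g)).obj L₀)) := by
    rw [cl_pull, cl_tensor, pullCl_mul, cl_tensor, cl_pull, pullCl_comp, cl_pull, cl_pull]
  refine ⟨L₀, h₀, ?_, ?_⟩
  · rw [← CurveBC.finrank_hh K (AlgebraicClosure K) π hbar _ hq 0, finrank_congr_cl hcl, hh0]
  · haveI : IsLocallyNoetherian X' := LocallyOfFiniteType.isLocallyNoetherian (X' ↘ Spec (CommRingCat.of K))
    haveI := S0002.result K X' _ (CurveDeg.isCoh_of_isInvertible hM) 1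
    refine (Module.finrank_zero_iff (R := K)).1 ?_
    haveI := hh1
    rw [← CurveBC.finrank_hh K (AlgebraicClosure K) π hbar _ hq 1, finrank_congr_cl hcl,
      Module.finrank_zero_of_subsingleton]

end Groth.Agent.PicfLib.CurveTw
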