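import Groth.Agent.Lib.CurveTwist
import Groth.Agent.QCoh.ProperOver
import Groth.Agent.Triage.SchDense
import Groth.Agent.CurveEmbed.Points
import Groth.Agent.ArSurfX.PullIdeal
import Groth.Agent.CurveFin75.PointDivisor

/-! Rational points of a curve and their inverse images under extension of the base field. -/

set_option autoImplicit false
set_option linter.style.haveILetI false
set_option backward.isDefEq.respectTransparency false
set_option backward.isDefEq.respectTransparency.types false

universe u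

open CategoryTheory CategoryTheory.Limits AlgebraicGeometry TopologicalSpace Opposite

namespace Groth.Agent.PicfLib.CurveTw

open Groth.Agent.CurveBundle Groth.Agent.CurveSlope Groth.Agent.CurveStable Groth.Agent.CurvePoint

variable {k : Type u} [Field k] {X : Scheme.{u}} [X.Over (Spec (CommRingCat.of k))]

/-- The ideal of the image of a section is the ideal of its point. -/
theorem ker_eq_ptIdeal (σ : Spec (CommRingCat.of k) ⟶ X) [IsClosedImmersion σ] (P : X)
    (hP : Set.range σ = {P}) (hcl : IsClosed ({P} : Set X)) : σ.ker = CurvePoint.ptIdeal P hcl := by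
  refine le_antisymm (QCoh.ker_le_vanishingIdeal σ _ (by rw [hP]; rfl)) ?_
  refine le_trans ?_ (Triage.SchDense.vanishingIdeal_le_ker σ)
  unfold CurvePoint.ptIdeal
  refine le_of_eq (congrArg Scheme.IdealSheafData.vanishingIdeal (Closeds.ext ?_))
  show ({P} : Set X) = closure (Set.range σ)
  rw [hP, hcl.closure_eq]

theorem range_section (σ : Spec (CommRingCat.of k) ⟶ X) :
    Set.range σ = {σ (IsLocalRing.closedPoint k)} := by
  haveI : Subsingleton (Spec (CommRingCat.of k)) := inferInstanceAs (Subsingleton (PrimeSpectrum k))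
  ext x
  exact ⟨fun ⟨t, ht⟩ => by rw [← ht, Subsingleton.elim t (IsLocalRing.closedPoint k)]; rfl, fun h => ⟨_, h.symm⟩⟩

theorem isClosedImmersion_section [IsSeparated (X ↘ Spec (CommRingCat.of k))] (σ : Spec (CommRingCat.of k) ⟶ X)
    (h : σ ≫ (X ↘ Spec (CommRingCat.of k)) = 𝟙 _) : IsClosedImmersion σ :=
  haveI : IsClosedImmersion (σ ≫ (X ↘ Spec (CommRingCat.of k))) := by rw [h]; infer_instance
  IsClosedImmersion.of_comp σ (X ↘ Spec (CommRingCat.of k))

theorem isClosed_point [IsSeparated (X ↘ Spec (CommRingCat.of k))] (σ : Spec (CommRingCat.of k) ⟶ X)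
    (h : σ ≫ (X ↘ Spec (CommRingCat.of k)) = 𝟙 _) : IsClosed ({σ (IsLocalRing.closedPoint k)} : Set X) :=
  haveI := isClosedImmersion_section σ h
  range_section σ ▸ σ.isClosedEmbedding.isClosed_range

variable {K : Type u} [Field K] [Algebra k K] {X' : Scheme.{u}} [X'.Over (Spec (CommRingCat.of K))]
  {g : X' ⟶ X}
  (hpb : IsPullback g (X' ↘ Spec (CommRingCat.of K)) (X ↘ Spec (CommRingCat.of k))
    (Spec.map (CommRingCat.ofHom (algebraMap k K))))

include hpb in
/-- The ideal of a rational point pulls back to the ideal of the point over it. -/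
theorem exists_point_over [IsSeparated (X ↘ Spec (CommRingCat.of k))] [IsSeparated (X' ↘ Spec (CommRingCat.of K))]
    (σ : Spec (CommRingCat.of k) ⟶ X) (h : σ ≫ (X ↘ Spec (CommRingCat.of k)) = 𝟙 _) :
    ∃ (p : X') (hp : IsClosed ({p} : Set X')), g p = σ (IsLocalRing.closedPoint k) ∧
      (CurvePoint.ptIdeal _ (isClosed_point σ h)).comap g = CurvePoint.ptIdeal p hp := by
  let φ := Spec.map (CommRingCat.ofHom (algebraMap k K))
  let σ' := hpb.lift (φ ≫ σ) (𝟙 _) (by rw [Category.assoc, h, Category.comp_id, Category.id_comp])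
  have h' : σ' ≫ (X' ↘ Spec (CommRingCat.of K)) = 𝟙 _ := hpb.lift_snd _ _ _
  have hg : σ' ≫ g = φ ≫ σ := hpb.lift_fst _ _ _
  refine ⟨_, isClosed_point σ' h', ?_, ?_⟩
  · haveI : Subsingleton (Spec (CommRingCat.of k)) := inferInstanceAs (Subsingleton (PrimeSpectrum k))
    rw [← Scheme.Hom.comp_apply, hg, Scheme.Hom.comp_apply]
    exact congrArg σ (Subsingleton.elim _ _)
  haveI := isClosedImmersion_section σ h
  haveI := isClosedImmersion_section σ' h'
  have sq : IsPullback σ' φ g σ := by
    refine (IsPullback.of_bot ?_ hg.symm hpb).flip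
    rw [h, h']
    exact IsPullback.of_vert_isIso ⟨by simp [φ]⟩
  rw [← ker_eq_ptIdeal σ _ (range_section σ) (isClosed_point σ h),
    ← ker_eq_ptIdeal σ' _ (range_section σ') (isClosed_point σ' h')]
  show (pullback.fst g σ.ker.subschemeι).ker = σ'.ker
  let e := asIso σ.toImage
  have he : σ.toImage ≫ σ.ker.subschemeι = σ := σ.toImage_imageι
  have sq' : IsPullback σ' (φ ≫ σ.toImage) g σ.ker.subschemeι :=
    sq.of_iso (Iso.refl _) (Iso.refl _) e (Iso.refl _) (by simp) (by simp [e]) (by simp) (by simp [e, he])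
  rw [show pullback.fst g σ.ker.subschemeι = sq'.isoPullback.inv ≫ σ' from sq'.isoPullback_inv_fst.symm,
    Scheme.Hom.ker_comp_of_isIso]

section Twist

variable (k) [IsIntegral X] [IsProper (X ↘ Spec (CommRingCat.of k))] [Smooth (X ↘ Spec (CommRingCat.of k))]
variable [IsAlgClosed k]

/-- A non-special line bundle with sections stays non-special on twisting down at almost any point. -/
theorem twist_down_at (hdim : topologicalKrullDim X = 1) {L : X.Modules} (hL : PicF.IsInvertible L)
    (h1 : Subsingleton (Coh.HH X L 1)) (hd : (Curv2.genus k X : ℤ) ≤ Curv2.deg k X L 1) :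
    ∃ Z : Set X, Z.Finite ∧ ∀ (p : X) (hp : IsClosed ({p} : Set X)), p ∉ Z →
      Subsingleton (Coh.HH X ((DCoh.tensorBi.obj L).obj (CurvePoint.ptMod p hp)) 1) := by
  haveI := CurveCohLib.isNoetherian_of_proper (k := k) (X := X)
  have hL1 := InvEnd.isFinLocFreeOfRank_one hL
  have hLc := coh_of_free k (isFinLocFree_of_rank hL1)
  haveI := S0002.result k X L hLc 0
  have hdeg : ∀ {M : X.Modules}, Curv2.deg k X M 1 = Curv2.euler k X M - (1 - (Curv2.genus k X : ℤ)) := by
    intro M
    unfold Curv2.deg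
    rw [CurveRR.euler_structureModule k hdim.le]
    push_cast
    ring
  have hχ := CurveRR.euler_eq_h0_sub_h1 k hdim.le hLc.1
  haveI := h1
  rw [Module.finrank_zero_of_subsingleton (R := k) (M := Coh.HH X L 1)] at hχ
  obtain ⟨t, ht⟩ : ∃ t : Coh.HH X L 0, t ≠ 0 := by
    haveI : Nontrivial (Coh.HH X L 0) := Module.nontrivial_of_finrank_pos (R := k) (by
      rw [hdeg] at hd
      omega)
    exact exists_ne 0
  obtain ⟨Z, hZ, hsur⟩ :=
    CurveTwist.exists_finite_surjective k hdim hL1 _ (CurveSpecial.homOfClass_ne_zero ht)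
  refine ⟨Z, hZ, fun p hp hpZ => ?_⟩
  have hgen : ∀ v : L.presheaf.stalk p, ∃ t : Coh.HH X L 0,
      v - L.presheaf.germ ⊤ p trivial (Sheaf.H.equiv₀ (Coh.toAb L) isTerminalTop t : Γ(L, ⊤)) ∈
        IsLocalRing.maximalIdeal (X.presheaf.stalk p) •
          (⊤ : Submodule (X.presheaf.stalk p) (L.presheaf.stalk p)) := fun v => by
    obtain ⟨y, hy⟩ := hsur p hpZ v
    obtain ⟨a, ha⟩ := CurveSection.homOfTop_stalk_eq_smul
      (Sheaf.H.equiv₀ (Coh.toAb L) isTerminalTop t : Γ(L, ⊤)) p y
    obtain ⟨c, hc⟩ := CurveTwist.exists_scalar k hp t a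
    refine ⟨c • t, ?_⟩
    rw [show v = a • L.presheaf.germ ⊤ p trivial
      (Sheaf.H.equiv₀ (Coh.toAb L) isTerminalTop t : Γ(L, ⊤)) from hy.symm.trans ha]
    exact hc
  have h0 := (CurvePoint.finrank_twist p hp k hL1).2 hgen
  have hI := CurvePoint.isInvertible_ptMod p hp k hdim
  have hL' : PicF.IsInvertible ((DCoh.tensorBi.obj L).obj (CurvePoint.ptMod p hp)) :=
    InvX.isInvertible_tensorMod hL hI
  have hd' := CurveRR.deg_tensor k hdim hL hI
  rw [CurvePoint.deg_ptMod p hp k] at hd'
  have hc' := coh_of_free k (isFinLocFree_of_rank (InvEnd.isFinLocFreeOfRank_one hL'))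
  haveI := S0002.result k X _ hc' 1
  have hχ' := CurveRR.euler_eq_h0_sub_h1 k hdim.le hc'.1
  rw [hdeg, hdeg] at hd'
  exact Module.finrank_zero_iff.1 (show Module.finrank k
    (Coh.HH X ((DCoh.tensorBi.obj L).obj (CurvePoint.ptMod p hp)) 1) = 0 by omega)

end Twist

section PullPoint

variable (k K) [IsIntegral X] [IsProper (X ↘ Spec (CommRingCat.of k))] [Smooth (X ↘ Spec (CommRingCat.of k))]
  [IsIntegral X'] [IsProper (X' ↘ Spec (CommRingCat.of K))] [Smooth (X' ↘ Spec (CommRingCat.of K))]

include hpb in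
/-- The module of a rational point pulls back to the module of the point over it. -/
theorem exists_point_module (hdim : topologicalKrullDim X = 1) (hdim' : topologicalKrullDim X' = 1)
    (σ : Spec (CommRingCat.of k) ⟶ X) (h : σ ≫ (X ↘ Spec (CommRingCat.of k)) = 𝟙 _) :
    ∃ (p : X') (hp : IsClosed ({p} : Set X')), g p = σ (IsLocalRing.closedPoint k) ∧
      PicF.IsInvertible (CurvePoint.ptMod _ (isClosed_point σ h)) ∧
      Nonempty ((Scheme.Modules.pullback g).obj (CurvePoint.ptMod _ (isClosed_point σ h)) ≅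
        CurvePoint.ptMod p hp) := by
  obtain ⟨p, hp, hgp, hI⟩ := exists_point_over hpb σ h
  have hc := isClosed_point σ h
  have hn : IsIntegrallyClosed (X.presheaf.stalk (σ (IsLocalRing.closedPoint k))) := by
    haveI := CurveFF.isDVR k X hdim hc
    infer_instance
  have hn' : IsIntegrallyClosed (X'.presheaf.stalk p) := by
    haveI := CurveFF.isDVR K X' hdim' hp
    infer_instance
  have hD := CurveEmbed.isEffCartier_point k hdim hc hn
  have hD' := CurveEmbed.isEffCartier_point K hdim' hp hn'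
  refine ⟨p, hp, hgp, CurvePoint.isInvertible_ptMod _ hc k hdim, ?_⟩
  obtain ⟨e⟩ := ArSurfX.nonempty_pullback_idealMod hD g (hI.symm ▸ hD')
  exact ⟨e ≪≫ eqToIso (congrArg ClSub.idealMod hI)⟩

end PullPoint

end Groth.Agent.PicfLib.CurveTw
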